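import Cfsg.Agent.Lib.Helper56.SuzPerm.Data

set_option autoImplicit false
set_option linter.unusedVariables false

namespace Cfsg.Agent.Lib.Helper56.SuzPerm

open Cfsg.Spor.Suz (Gen)
open Cfsg.Agent.Lib.Helper28.TC Cfsg.Agent.Lib.Helper28.Suz1782

noncomputable section

theorem orbP2_blk0 : allRange (guard nn orbP2) 10 (0 * 2 ^ 10) = true := by decide +kernel
theorem orbP2_blk1 : allRange (guard nn orbP2) 10 (1 * 2 ^ 10) = true := by decide +kernel
theorem orbP2_all : ∀ i, i < nn → orbP2 i = true := by
  refine all_of_blocks nn orbP2 10 2 (by decide) ?_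
  intro k hk
  interval_cases k
  · exact orbP2_blk0
  · exact orbP2_blk1
theorem orb2_count : countRange (fun i => band (nlt i nn) (OC2.inO i)) 11 0 = 1050 := by decide +kernel
theorem orb2_root : OC2.inO 21 = true := by decide +kernel
theorem fix2 : allList (fun w => allList (fun b => Nat.beq (act tf w b) b) [0, 995]) words2 = true := by decide +kernel

end

end Cfsg.Agent.Lib.Helper56.SuzPerm
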