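import Cfsg.Agent.Lib.Helper56.SuzPerm.ChkO0
import Cfsg.Agent.Lib.Helper56.SuzPerm.ChkO1
import Cfsg.Agent.Lib.Helper56.SuzPerm.ChkO2
import Cfsg.Agent.Lib.Helper56.SuzPerm.ChkO3
import Cfsg.Agent.Lib.Helper56.SuzPerm.ChkO4
import Cfsg.Agent.Lib.Helper56.SuzPerm.ChkO5
import Cfsg.Agent.Lib.Helper56.SuzPerm.ChkE0
import Cfsg.Agent.Lib.Helper56.SuzPerm.ChkE1
import Cfsg.Agent.Lib.Helper56.SuzPerm.ChkE2
import Cfsg.Agent.Lib.Helper56.SuzPerm.ChkE3
import Cfsg.Agent.Lib.Helper56.SuzPerm.ChkE4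
import Cfsg.Agent.Lib.Helper56.SuzPerm.ChkE5
import Cfsg.Agent.Lib.Helper56.SuzPerm.ChkE6

set_option autoImplicit false
set_option linter.unusedVariables false

namespace Cfsg.Agent.Lib.Helper56.SuzPerm

open Cfsg.Spor.Suz (Gen)
open Cfsg.Agent.Lib.Helper28.TC Cfsg.Agent.Lib.Helper28.Suz1782

noncomputable section

theorem ordP_all : ∀ i, i < nn → ordP i = true := by
  refine all_of_blocks nn ordP 8 7 (by decide) ?_
  intro k hk
  interval_cases k
  · exact ordP_blk0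
  · exact ordP_blk1
  · exact ordP_blk2
  · exact ordP_blk3
  · exact ordP_blk4
  · exact ordP_blk5
  · exact ordP_blk6

end

end Cfsg.Agent.Lib.Helper56.SuzPerm
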