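import Cfsg.Agent.Lib.Helper56.SuzPerm.Data

set_option autoImplicit false
set_option linter.unusedVariables false

namespace Cfsg.Agent.Lib.Helper56.SuzPerm

open Cfsg.Spor.Suz (Gen)
open Cfsg.Agent.Lib.Helper28.TC Cfsg.Agent.Lib.Helper28.Suz1782

noncomputable section

/-- every row is `0` or lies in one of the two suborbits -/
def coverP (i : ℕ) : Bool := Nat.beq i 0 || (OC1.inO i || OC5.inO i)

theorem coverP_blk0 : allRange (guard nn coverP) 11 (0 * 2 ^ 11) = true := by decide +kernel

theorem coverP_all : ∀ i, i < nn → coverP i = true := by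
  refine all_of_blocks nn coverP 11 1 (by decide) ?_
  intro k hk
  interval_cases k
  exact coverP_blk0

theorem not0_1 : OC1.inO 0 = false := by decide +kernel

theorem not0_5 : OC5.inO 0 = false := by decide +kernel

theorem uv_cover : ∀ x : Gen, ∃ t ∈ uvWords, t.1 = x := by
  intro x
  cases x <;> decide

theorem words0_eq : words0 = [[Gen.a], [Gen.b], [Gen.c], [Gen.d], [Gen.e], [Gen.f], [Gen.g]] := rfl

end

end Cfsg.Agent.Lib.Helper56.SuzPerm
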