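/-
The presented Suzuki group is simple of order 448345497600, by helper56.
Lower bound and simplicity come from the permutation representation on the 1782 cosets of
`⟨a, …, f⟩` (helper28's coset enumeration); the upper bound is `SuzUpper.card_Suz_le`.
-/
import Cfsg.Agent.Lib.Helper56.SuzPerm.ChkAll
import Cfsg.Agent.Lib.Helper56.SuzPerm.ChkX
import Cfsg.Agent.Lib.Helper56.SuzUpper

set_option autoImplicit false

namespace Cfsg.Agent.Lib.Helper56.SuzPerm

open Cfsg.Spor.Suz (Gen)
open Cfsg.Agent.Lib.Helper28 Cfsg.Agent.Lib.Helper28.TC Cfsg.Agent.Lib.Helper28.Suz1782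
open MulAction

/-- the permutation of a word -/
noncomputable def wp (w : List Gen) : Equiv.Perm (Fin nn) := (w.map T.perm).prod

/-- the permutation group generated by the seven generators -/
noncomputable def Gh : Subgroup (Equiv.Perm (Fin nn)) := Subgroup.closure (wordPerms T words0)

theorem wp_apply (w : List Gen) (i : Fin nn) : (wp w i).val = act tf w i :=
  T.wordPerm_apply_val w i

theorem wp_singleton (x : Gen) : wp [x] = T.perm x := by simp [wp]

theorem wp_append (w w' : List Gen) : wp (w ++ w') = wp w * wp w' := by simp [wp]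

theorem perm_mem_Gh (x : Gen) : T.perm x ∈ Gh := by
  apply Subgroup.subset_closure
  refine ⟨[x], ?_, (wp_singleton x).symm⟩
  rw [words0_eq]
  cases x <;> simp

theorem wp_mem_Gh (w : List Gen) : wp w ∈ Gh := by
  apply Subgroup.list_prod_mem
  intro p hp
  obtain ⟨x, -, rfl⟩ := List.mem_map.1 hp
  exact perm_mem_Gh x

theorem wp_eq_one (w : List Gen) (h : ∀ i, i < nn → act tf w i = i) : wp w = 1 :=
  T.wordPerm_eq_one w h

theorem wp_pow (w : List Gen) (k : ℕ) : wp (List.replicate k w).flatten = wp w ^ k :=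
  WE.wval_replicate_flatten T.perm w k

theorem nn_eq : nn = 1782 := rfl

/-- the set certified by an orbit certificate -/
def oset (O : OrbCert) : Set (Fin nn) := {i | O.inO i = true}

theorem orbit_eq (words : List (List Gen)) (O : OrbCert) (hroot : O.root < nn)
    (hrootin : O.inO O.root = true) (hrows : ∀ i, i < nn → orbRowOK tf nn words O i = true) :
    orbit (Subgroup.closure (wordPerms T words)) (⟨O.root, hroot⟩ : Fin nn) = oset O :=
  orbit_eq_of_cert T words O hroot hrootin hrows

theorem nn_le_pow' : nn ≤ 2 ^ 11 := by decide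

/-- the points of `Fin nn` with the given values -/
def mkPts (l : List ℕ) : List (Fin nn) :=
  l.filterMap fun k => if h : k < nn then some ⟨k, h⟩ else none

theorem val_mem_of_mem_mkPts (l : List ℕ) : ∀ p ∈ mkPts l, p.val ∈ l := by
  intro p hp
  unfold mkPts at hp
  rw [List.mem_filterMap] at hp
  obtain ⟨k, hk, hkp⟩ := hp
  by_cases h : k < nn
  · rw [dif_pos h] at hkp
    have : p = ⟨k, h⟩ := (Option.some.inj hkp).symm
    rw [this]; exact hk
  · rw [dif_neg h] at hkp
    cases hkp

theorem mkPts_cons (b : ℕ) (hb : b < nn) (l : List ℕ) :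
    mkPts (b :: l) = ⟨b, hb⟩ :: mkPts l := by
  unfold mkPts
  rw [List.filterMap_cons, dif_pos hb]

theorem oset_ncard (O : OrbCert) (m : ℕ)
    (hcount : countRange (fun i => band (nlt i nn) (O.inO i)) 11 0 = m) : (oset O).ncard = m := by
  unfold oset
  rw [card_fin_filter _ nn 11 nn_le_pow', hcount]

/-- one step of the stabilizer chain -/
theorem step_aux (ptsN fixN : List ℕ) (hsub : ∀ b ∈ ptsN, b ∈ fixN)
    (words : List (List Gen))
    (hfix : allList (fun w => allList (fun b => Nat.beq (act tf w b) b) fixN) words = true)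
    (O : OrbCert) (hroot : O.root < nn) (hrootin : O.inO O.root = true)
    (hrows : ∀ i, i < nn → orbRowOK tf nn words O i = true)
    (m : ℕ) (hcount : countRange (fun i => band (nlt i nn) (O.inO i)) 11 0 = m)
    (k : ℕ) (hk : k ≤ Nat.card (ptStab Gh (mkPts (O.root :: ptsN)))) :
    m * k ≤ Nat.card (ptStab Gh (mkPts ptsN)) := by
  rw [mkPts_cons O.root hroot] at hk
  apply card_ptStab_ge Gh (mkPts ptsN) ⟨O.root, hroot⟩ (wordPerms T words) _ m k _ hk
  · rintro s ⟨w, hw, rfl⟩
    refine ⟨wp_mem_Gh w, ?_⟩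
    intro p hp
    apply Fin.ext
    have h1 := allList_spec _ _ hfix w hw
    have h2 := allList_spec _ _ h1 p.val (hsub _ (val_mem_of_mem_mkPts ptsN p hp))
    exact (wp_apply w p).trans (nbeq_eq_true.1 h2)
  · rw [orbit_eq words O hroot hrootin hrows, oset_ncard O m hcount]

theorem card_Gh_ge : 448345497600 ≤ Nat.card Gh := by
  have h5 : 1 ≤ Nat.card (ptStab Gh (mkPts [14, 8, 21, 995, 0])) := Nat.card_pos
  have h4 := step_aux [8, 21, 995, 0] [0, 995, 21, 8] (by decide) words4 fix4 OC4 (by decide) orb4_root orbP4_all 3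
    orb4_count 1 h5
  have h3 := step_aux [21, 995, 0] [0, 995, 21] (by decide) words3 fix3 OC3 (by decide) orb3_root orbP3_all 192
    orb3_count _ h4
  have h2 := step_aux [995, 0] [0, 995] (by decide) words2 fix2 OC2 (by decide) orb2_root orbP2_all 1050
    orb2_count _ h3
  have h1 := step_aux [0] [0] (by decide) words1 fix1 OC1 (by decide) orb1_root orbP1_all 416 orb1_count _ h2
  have h0 := step_aux [] [] (by decide) words0 fix0 OC0 (by decide) orb0_root orbP0_all 1782 orb0_count _ h1
  have hnil : mkPts [] = [] := rfl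
  rw [hnil, ptStab_nil] at h0
  exact le_trans (by norm_num) h0

/-- the permutation representation of the presented group -/
noncomputable def π : PresentedGroup rels →* Equiv.Perm (Fin nn) := PresentedGroup.toGroup hrel

theorem π_of (x : Gen) : π (PresentedGroup.of x) = T.perm x := PresentedGroup.toGroup.of hrel

theorem range_π : π.range = Gh := by
  apply le_antisymm
  · rw [MonoidHom.range_eq_map, ← PresentedGroup.closure_range_of, MonoidHom.map_closure,
      Subgroup.closure_le]
    rintro _ ⟨_, ⟨x, rfl⟩, rfl⟩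
    rw [π_of]
    exact perm_mem_Gh x
  · unfold Gh
    rw [Subgroup.closure_le]
    rintro _ ⟨w, hw, rfl⟩
    rw [words0_eq] at hw
    simp only [List.mem_cons, List.not_mem_nil, or_false] at hw
    have hx : ∃ x : Gen, w = [x] := by
      rcases hw with rfl | rfl | rfl | rfl | rfl | rfl | rfl <;> exact ⟨_, rfl⟩
    obtain ⟨x, rfl⟩ := hx
    exact ⟨PresentedGroup.of x, by rw [π_of]; simp⟩

/-- the presented group is isomorphic to the permutation group -/
theorem exists_equiv : Nonempty (PresentedGroup rels ≃* Gh) := by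
  obtain ⟨hfin, hcard⟩ := SuzUpper.card_Suz_le
  have hmem : ∀ g, π g ∈ Gh := fun g => by rw [← range_π]; exact ⟨g, rfl⟩
  let f : PresentedGroup rels →* Gh := π.codRestrict Gh hmem
  have hsurj : Function.Surjective f := by
    rintro ⟨p, hp⟩
    rw [← range_π] at hp
    obtain ⟨g, rfl⟩ := hp
    exact ⟨g, rfl⟩
  have hbij : Function.Bijective f :=
    hsurj.bijective_of_nat_card_le (le_trans hcard card_Gh_ge)
  exact ⟨MulEquiv.ofBijective f hbij⟩

theorem card_Gh : Nat.card Gh = 448345497600 := by
  obtain ⟨e⟩ := exists_equiv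
  apply le_antisymm _ card_Gh_ge
  rw [← Nat.card_congr e.toEquiv]
  exact SuzUpper.card_Suz_le.2

theorem card_Suz : Nat.card (PresentedGroup rels) = 448345497600 := by
  obtain ⟨e⟩ := exists_equiv
  rw [Nat.card_congr e.toEquiv, card_Gh]

/-! ### Simplicity -/

/-- the stabilizer part: the group generated by `a, …, f` -/
noncomputable def Kh : Subgroup (Equiv.Perm (Fin nn)) := Subgroup.closure (wordPerms T words1)

theorem Kh_le : Kh ≤ Gh := by
  unfold Kh
  rw [Subgroup.closure_le]
  rintro _ ⟨w, -, rfl⟩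
  exact wp_mem_Gh w

theorem Kh_fix : ∀ k ∈ Kh, k (⟨0, nn_pos⟩ : Fin nn) = ⟨0, nn_pos⟩ := by
  have : Kh ≤ stabilizer (Equiv.Perm (Fin nn)) (⟨0, nn_pos⟩ : Fin nn) := by
    unfold Kh
    rw [Subgroup.closure_le]
    rintro _ ⟨w, hw, rfl⟩
    apply mem_stabilizer_iff.2
    apply Fin.ext
    have h1 := allList_spec _ _ fix1 w hw
    have h2 := allList_spec _ _ h1 0 (by simp)
    exact (wp_apply w _).trans (nbeq_eq_true.1 h2)
  intro k hk
  exact mem_stabilizer_iff.1 (this hk)

theorem trans_of_orbit (O : OrbCert) (hroot : O.root < nn)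
    (h : orbit Kh (⟨O.root, hroot⟩ : Fin nn) = oset O) :
    ∀ d ∈ oset O, ∀ e ∈ oset O, ∃ k ∈ Kh, k d = e := by
  intro d hd e he
  rw [← h] at hd he
  obtain ⟨⟨k1, hk1⟩, rfl⟩ := hd
  obtain ⟨⟨k2, hk2⟩, rfl⟩ := he
  refine ⟨k2 * k1⁻¹, Kh.mul_mem hk2 (Kh.inv_mem hk1), ?_⟩
  show (k2 * k1⁻¹) (k1 _) = k2 _
  simp

theorem simple_Gh : IsSimpleGroup Gh := by
  have horb0 := orbit_eq words0 OC0 (by decide) orb0_root orbP0_all
  have horb1 := orbit_eq words1 OC1 (by decide) orb1_root orbP1_all
  have horb5 := orbit_eq words1 OC5 (by decide) orb5_root orbP5_all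
  have hn1 : (oset OC1).ncard = 416 := oset_ncard OC1 416 orb1_count
  have hn5 : (oset OC5).ncard = 1365 := oset_ncard OC5 1365 orb5_count
  have hcardX : Fintype.card (Fin nn) = 1782 := by rw [Fintype.card_fin]; rfl
  apply isSimpleGroup_of_rank3 Gh (⟨0, nn_pos⟩ : Fin nn) (by rw [hcardX]; norm_num) _ Kh Kh_le Kh_fix
    (oset OC1) (oset OC5) _ (trans_of_orbit OC1 (by decide) horb1)
    (trans_of_orbit OC5 (by decide) horb5) _ _ _ _ 11 1 (by norm_num) _ _
    (wordPerms T words0) rfl _
  · -- transitivity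
    intro c
    have huniv : oset OC0 = Set.univ := by
      apply Set.eq_of_subset_of_ncard_le (Set.subset_univ _) _ (Set.toFinite _)
      rw [oset_ncard OC0 1782 orb0_count, Set.ncard_univ, Nat.card_eq_fintype_card, hcardX]
    have hc : c ∈ orbit (Subgroup.closure (wordPerms T words0)) (⟨OC0.root, by decide⟩ : Fin nn) := by
      rw [horb0, huniv]; trivial
    obtain ⟨⟨g, hg⟩, rfl⟩ := hc
    exact ⟨g, hg, rfl⟩
  · -- cover
    intro c
    have h := coverP_all c.val c.2
    unfold coverP at h
    rw [Bool.or_eq_true, Bool.or_eq_true] at h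
    rcases h with h | h | h
    · left; exact Fin.ext (nbeq_eq_true.1 h)
    · right; left; exact h
    · right; right; exact h
  · show ¬ (OC1.inO 0 = true)
    rw [not0_1]; simp
  · show ¬ (OC5.inO 0 = true)
    rw [not0_5]; simp
  · rw [hn1, hcardX]; norm_num
  · rw [hn5, hcardX]; norm_num
  · rw [hcardX]; norm_num
  · rw [card_Gh]; norm_num
  · -- generators are products of two elements of order 11
    rintro _ ⟨w, hw, rfl⟩
    rw [words0_eq] at hw
    have hx : ∃ x : Gen, w = [x] := by
      simp only [List.mem_cons, List.not_mem_nil, or_false] at hw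
      rcases hw with rfl | rfl | rfl | rfl | rfl | rfl | rfl <;> exact ⟨_, rfl⟩
    obtain ⟨x, rfl⟩ := hx
    obtain ⟨⟨x', u, v⟩, ht, rfl⟩ := uv_cover x
    have hrow : ∀ i, i < nn → act tf (List.replicate 11 u).flatten i = i ∧
        act tf (List.replicate 11 v).flatten i = i ∧ act tf (u ++ v) i = tf x' i := by
      intro i hi
      have h1 := allList_spec _ _ (ordP_all i hi) _ ht
      rw [band_eq_true, band_eq_true] at h1
      exact ⟨nbeq_eq_true.1 h1.1, nbeq_eq_true.1 h1.2.1, nbeq_eq_true.1 h1.2.2⟩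
    refine ⟨wp u, wp v, wp_mem_Gh u, wp_mem_Gh v, ?_, ?_, ?_⟩
    · rw [← wp_pow]; exact wp_eq_one _ fun i hi => (hrow i hi).1
    · rw [← wp_pow]; exact wp_eq_one _ fun i hi => (hrow i hi).2.1
    · show wp [x'] = wp u * wp v
      rw [← wp_append]
      apply Equiv.ext
      intro i
      apply Fin.ext
      rw [wp_apply, wp_apply]
      exact ((hrow i i.2).2.2).symm

/-- The presented Suzuki group is simple of order `448345497600`. -/
theorem suz_simple_order : IsSimpleGroup (PresentedGroup rels) ∧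
    Nat.card (PresentedGroup rels) = 448345497600 := by
  refine ⟨?_, card_Suz⟩
  obtain ⟨e⟩ := exists_equiv
  haveI := simple_Gh
  exact e.isSimpleGroup

end Cfsg.Agent.Lib.Helper56.SuzPerm
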